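import Groth.Agent.HilbPolyLib.Twist
import Groth.Agent.KFlatLib.FreeModel

/-!
# Tensoring with an invertible module is an equivalence
-/

set_option autoImplicit false
universe u

open CategoryTheory CategoryTheory.Limits AlgebraicGeometry MonoidalCategory

noncomputable section

namespace VBP1Lib

variable {X : Scheme.{u}}

local notation "T" => CurvLib.tensorLeft'

/-- `O ⊗ - ≅ 𝟭`. -/
def unitNatIso : T (Coh.structureModule X) ≅ 𝟭 X.Modules :=
  NatIso.ofComponents (fun N => KFlatLib.tensUnitIso N) fun {M N} f => by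
    change DCoh.shP.map (DCoh.toP.obj (Coh.structureModule X) ◁ DCoh.toP.map f) ≫
        (DCoh.shP.map (λ_ (DCoh.toP.obj N)).hom ≫ _) =
      (DCoh.shP.map (λ_ (DCoh.toP.obj M)).hom ≫ _) ≫ f
    rw [← Category.assoc, ← DCoh.shP.map_comp]
    refine (congrArg (fun t => DCoh.shP.map t ≫ _) (leftUnitor_naturality (DCoh.toP.map f))).trans ?_
    rw [DCoh.shP.map_comp, Category.assoc, Category.assoc]
    exact congrArg (DCoh.shP.map (λ_ (DCoh.toP.obj M)).hom ≫ ·)
      ((PresheafOfModules.sheafificationAdjunction.{u} (R := X.ringCatSheaf)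
        (𝟙 X.ringCatSheaf.obj)).counit.naturality f)

/-- Composition of tensor functors. -/
def compIso (A B : X.Modules) : T (CohB1.tensorMod A B) ≅ T B ⋙ T A :=
  ((ModSiteLib.assocBi X.sheaf).app A).app B

/-- An inverse pair gives an equivalence. -/
def inverseEquiv {L M : X.Modules} (e : CohB1.tensorMod L M ≅ Coh.structureModule X) : X.Modules ≌ X.Modules :=
  CategoryTheory.Equivalence.mk (T L) (T M)
    (((DCoh.tensorBi (X := X)).mapIso (HilbPolyLib.swapIso M L ≪≫ e) ≪≫ unitNatIso).symm ≪≫ compIso M L)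
    ((compIso L M).symm ≪≫ (DCoh.tensorBi (X := X)).mapIso e ≪≫ unitNatIso)

theorem isEquivalence_tensor {L M : X.Modules} (e : CohB1.tensorMod L M ≅ Coh.structureModule X) :
    (T L).IsEquivalence :=
  ((inverseEquiv e).isEquivalence_functor :)

instance additive_tensorLeft' (L : X.Modules) : (T L).Additive :=
  inferInstanceAs ((DCoh.tensorBi (X := X)).obj L).Additive

end VBP1Lib

end
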