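import Groth.Agent.S0843
import Groth.Agent.S12453
import Groth.Agent.GenusZeroLib.Apps
import Groth.Agent.CurveVBLib.Line
import Groth.Agent.NormalLib.Regular
import Groth.Agent.ProjDegLib.Criterion
import Groth.Agent.QCohLib.ProjSpace
import Groth.Agent.VBP1Lib.Tensor

/-!
# Invertible modules on the projective line
-/

set_option autoImplicit false
universe u

open CategoryTheory CategoryTheory.Limits AlgebraicGeometry

noncomputable section

namespace VBP1Lib

variable (k : Type u) [Field k]

local notation "P" => CohB1.ProjSpace 1 k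
local notation "O'" => Twist.twistProjSpace 1 k

instance isProper_over : IsProper (P ↘ Spec (CommRingCat.of k)) := ProjDegLib.toSpec_isProper k 1

instance smooth_over : Smooth (P ↘ Spec (CommRingCat.of k)) := GenusZeroLib.smooth_toSpec 1 k

instance isIntegral_line : IsIntegral P := GenusZeroLib.isIntegral_projSpace k 1

theorem dim_line : topologicalKrullDim ↥P = 1 := by
  rw [GenusZeroLib.dim_projSpace k 1]; norm_num

theorem h1_structure : Subsingleton (Coh.HH P (Coh.structureModule P) 1) :=
  GenusZeroLib.subsingleton_h1_of_iso (Iso.refl _)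

theorem h0_structure : Module.finrank k (Coh.HH P (Coh.structureModule P) 0) = 1 := by
  obtain ⟨L, hL, hd, -⟩ := GenusZeroLib.exists_pencil_of_iso (k := k) (dim_line k)
    (fun x => haveI := CurveVBLib.regular_stalk (k := k) x
      NormalLib.isIntegrallyClosed_of_isRegularLocalRing _)
    (Iso.refl _) (Category.id_comp _)
  exact GenusZeroLib.finrank_structure_of_deg_one k (dim_line k) (h1_structure k) hL hd

theorem genus_line : Curv2.genus k P = 0 := GenusZeroLib.genus_eq_zero k (h1_structure k)

theorem hcov : (⨆ f : CohB1.polyGrading 1 k 1, Proj.basicOpen (CohB1.polyGrading 1 k) (f : MvPolynomial (Fin 2) k)) = ⊤ := by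
  refine eq_top_iff.mpr ((QCohLib.iSup_stdOpen 1 k).ge.trans (iSup_le fun i => ?_))
  exact le_iSup (fun f : CohB1.polyGrading 1 k 1 => Proj.basicOpen (CohB1.polyGrading 1 k) (f : MvPolynomial (Fin 2) k))
    ⟨MvPolynomial.X i, MvPolynomial.isHomogeneous_X k i⟩

theorem twist_inv (d : ℤ) : PicF.IsInvertible (O' d) :=
  (Groth.Agent.S12453.result (CohB1.polyGrading 1 k) (hcov k)).1 d

theorem twist_add (a b : ℤ) : Nonempty (CohB1.tensorMod (O' a) (O' b) ≅ O' (a + b)) :=
  (Groth.Agent.S12453.result (CohB1.polyGrading 1 k) (hcov k)).2.1 a b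

theorem deg_twist_one : Curv2.deg k P (O' 1) 1 = 1 := by
  obtain ⟨e⟩ := Groth.Agent.S0843.result k 1 1
  have hli : LinearIndependent k (MvPolynomial.X : Fin 2 → MvPolynomial (Fin 2) k) :=
    MvPolynomial.linearIndependent_X _ _
  have h2 : Module.finrank k (Coh.HH P (O' ((1 : ℕ) : ℤ)) 0) = 2 := by
    rw [e.finrank_eq, MvPolynomial.homogeneousSubmodule_one_eq_span_X, finrank_span_eq_card hli, Fintype.card_fin]
  change Module.finrank k (Coh.HH P (O' 1) 0) = 2 at h2
  haveI : Nontrivial (Coh.HH P (O' 1) 0) :=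
    Module.nontrivial_of_finrank_pos (R := k) (by omega)
  obtain ⟨s, hs⟩ := CurvLib.exists_hom_ne_zero (L := O' 1) this
  have h1 := CurvLib.h1_le (k := k) (dim_line k) CurvLib.isInvertible_structureModule (twist_inv k 1) hs
  haveI := h1_structure k
  rw [Module.finrank_zero_of_subsingleton (R := k) (M := Coh.HH P (Coh.structureModule P) 1)] at h1
  have e1 := CurvLib.euler_curve (k := k) (dim_line k) (O' 1)
  have e0 := CurvLib.euler_curve (k := k) (dim_line k) (Coh.structureModule P)
  rw [Module.finrank_zero_of_subsingleton (R := k) (M := Coh.HH P (Coh.structureModule P) 1), h0_structure k] at e0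
  rw [Curv2.deg]
  push_cast
  omega

/-- `deg O(d) = d`. -/
theorem deg_twist (d : ℤ) : Curv2.deg k P (O' d) 1 = d := by
  let f : ℤ →+ ℤ := AddMonoidHom.mk' (fun d => Curv2.deg k P (O' d) 1) fun a b => by
    obtain ⟨e⟩ := twist_add k a b
    rw [← CurvLib.deg_congr (k := k) e 1]
    exact GenusZeroLib.deg_tensor k (dim_line k) (twist_inv k a) (twist_inv k b)
  have h := map_zsmul f d 1
  rw [show f 1 = 1 from deg_twist_one k] at h
  rw [smul_eq_mul, mul_one] at h
  exact h

/-- Modules of degree zero are trivial. -/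
theorem iso_structure_of_deg_zero {L : (CohB1.ProjSpace 1 k).Modules} (hL : PicF.IsInvertible L)
    (hd : Curv2.deg k P L 1 = 0) : Nonempty (L ≅ Coh.structureModule P) :=
  CurvLib.iso_structure_of_genus_zero (dim_line k) (h0_structure k) (genus_line k) hL hd

theorem twist_zero : Nonempty (O' 0 ≅ Coh.structureModule P) :=
  iso_structure_of_deg_zero k (twist_inv k 0) (deg_twist k 0)

theorem isEquivalence_twist (d : ℤ) : (CurvLib.tensorLeft' (O' d)).IsEquivalence := by
  obtain ⟨e⟩ := twist_add k d (-d)
  obtain ⟨e0⟩ := twist_zero k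
  exact isEquivalence_tensor (e ≪≫ eqToIso (congrArg O' (add_neg_cancel d)) ≪≫ e0)

/-- Invertible modules are twists. -/
theorem exists_iso_twist {L : (CohB1.ProjSpace 1 k).Modules} (hL : PicF.IsInvertible L) :
    Nonempty (L ≅ O' (Curv2.deg k P L 1)) := by
  set d := Curv2.deg k P L 1 with hd
  obtain ⟨e⟩ := iso_structure_of_deg_zero k (HilbPolyLib.isInvertible_tensor (twist_inv k (-d)) hL)
    (by rw [GenusZeroLib.deg_tensor k (dim_line k) (twist_inv k (-d)) hL, deg_twist, ← hd]; ring)
  obtain ⟨e'⟩ := twist_add k (-d) d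
  obtain ⟨e0⟩ := twist_zero k
  haveI := isEquivalence_twist k (-d)
  exact ⟨(CurvLib.tensorLeft' (O' (-d))).preimageIso
    (e ≪≫ e0.symm ≪≫ eqToIso (congrArg O' (neg_add_cancel d).symm) ≪≫ e'.symm)⟩

/-- `h⁰ O(d) = max (d+1) 0`. -/
theorem finrank_h0_twist (d : ℤ) : Module.finrank k (Coh.HH P (O' d) 0) = (d + 1).toNat := by
  by_cases hd : 0 ≤ d
  · have := (CurvLib.genus_zero_deg_pos (k := k) (dim_line k) (h0_structure k) (genus_line k) (twist_inv k d)
      (by rw [deg_twist]; exact hd)).1
    rw [deg_twist] at this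
    omega
  · rcases Nat.eq_zero_or_pos (Module.finrank k (Coh.HH P (O' d) 0)) with h | h
    · omega
    exfalso
    obtain ⟨s, hs⟩ := CurvLib.exists_hom_ne_zero (L := O' d) (Module.nontrivial_of_finrank_pos (R := k) h)
    have h1 := CurvLib.euler_le (k := k) CurvLib.isInvertible_structureModule (twist_inv k d) (dim_line k) hs
    have h2 := deg_twist k d
    rw [Curv2.deg] at h2
    push_cast at h2
    omega

/-- `H¹ O(d) = 0` for `d ≥ -1`. -/
theorem subsingleton_h1_twist (d : ℤ) (hd : -1 ≤ d) : Subsingleton (Coh.HH P (O' d) 1) := by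
  haveI := CurvLib.finite_HH (k := k) (CurvLib.isCoh_of_isInvertible (twist_inv k d)) 1
  haveI := h1_structure k
  have e := CurvLib.euler_curve (k := k) (dim_line k) (O' d)
  have e0 := CurvLib.euler_curve (k := k) (dim_line k) (Coh.structureModule P)
  rw [Module.finrank_zero_of_subsingleton (R := k) (M := Coh.HH P (Coh.structureModule P) 1), h0_structure k] at e0
  have h2 := deg_twist k d
  rw [Curv2.deg] at h2
  push_cast at h2
  have h0 := finrank_h0_twist k d
  exact (Module.finrank_zero_iff (R := k)).mp (by omega)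

end VBP1Lib

end
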