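import Groth.Agent.CurvLib.RRBasic

/-!
# Finite coproducts and split sequences
-/

set_option autoImplicit false
universe u

open CategoryTheory CategoryTheory.Limits AlgebraicGeometry

noncomputable section

namespace VBP1Lib

variable {X : Scheme.{u}} {n : ℕ}

/-- `f 0 → ∐ f → ∐ (f ∘ succ)`. -/
def coprodSeq (f : Fin (n + 1) → X.Modules) : ShortComplex X.Modules :=
  ShortComplex.mk (Sigma.ι f 0)
    (Sigma.desc (Fin.cases (motive := fun i => f i ⟶ ∐ fun i : Fin n => f i.succ) 0
      fun i => Sigma.ι (fun i : Fin n => f i.succ) i))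
    (by simp)

/-- The evident splitting. -/
def coprodSeqSplitting (f : Fin (n + 1) → X.Modules) : (coprodSeq f).Splitting where
  r := Sigma.desc (Fin.cases (motive := fun i => f i ⟶ f 0) (𝟙 _) fun _ => 0)
  s := Sigma.desc fun i => Sigma.ι f i.succ
  f_r := by simp [coprodSeq]
  s_g := Sigma.hom_ext _ _ fun i => by simp [coprodSeq]
  id := Sigma.hom_ext _ _ fun i => by
    refine (Preadditive.comp_add _ _ _ _ _ _).trans ?_
    refine Fin.cases ?_ (fun j => ?_) i
    · simp [coprodSeq]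
      exact add_zero _
    · simp [coprodSeq]
      exact zero_add _

/-- An extension of `∐ (f ∘ succ)` by `f 0` with a lift is `∐ f`. -/
theorem nonempty_iso_coprod (f : Fin (n + 1) → X.Modules) {S : ShortComplex X.Modules} (hS : S.ShortExact)
    (e₁ : S.X₁ ≅ f 0) (φ : (∐ fun i : Fin n => f i.succ) ⟶ S.X₂) [IsIso (φ ≫ S.g)] :
    Nonempty (S.X₂ ≅ ∐ f) := by
  let ψ : (∐ f) ⟶ S.X₂ := Sigma.desc (Fin.cases (motive := fun i => f i ⟶ S.X₂) (e₁.inv ≫ S.f)
    fun i => Sigma.ι (fun i : Fin n => f i.succ) i ≫ φ)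
  let μ : coprodSeq f ⟶ S :=
    { τ₁ := e₁.inv
      τ₂ := ψ
      τ₃ := φ ≫ S.g
      comm₁₂ := by simp [coprodSeq, ψ]
      comm₂₃ := Sigma.hom_ext _ _ fun i => by
        refine Fin.cases ?_ (fun j => ?_) i <;> simp [coprodSeq, ψ] }
  haveI : IsIso μ.τ₁ := inferInstanceAs (IsIso e₁.inv)
  haveI : IsIso μ.τ₃ := inferInstanceAs (IsIso (φ ≫ S.g))
  have := ShortComplex.isIso₂_of_shortExact_of_isIso₁₃ μ (coprodSeqSplitting f).shortExact hS
  exact ⟨(asIso μ.τ₂).symm⟩

variable {k : Type u} [Field k] [X.Over (Spec (CommRingCat.of k))] {S : ShortComplex X.Modules}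

/-- Sections are additive in split sequences. -/
theorem finrank_h0_of_section (hS : S.ShortExact) (s : S.X₃ ⟶ S.X₂) (hs : s ≫ S.g = 𝟙 _)
    (h₁ : Module.Finite k (Coh.HH X S.X₁ 0)) (h₃ : Module.Finite k (Coh.HH X S.X₃ 0)) :
    Module.Finite k (Coh.HH X S.X₂ 0) ∧
    Module.finrank k (Coh.HH X S.X₂ 0) = Module.finrank k (Coh.HH X S.X₁ 0) + Module.finrank k (Coh.HH X S.X₃ 0) := by
  let a := CurvLib.hMap (k := k) S.f 0
  let b := CurvLib.hMap (k := k) S.g 0
  have hb : Function.Surjective b := fun y => ⟨CurvLib.hMap (k := k) s 0 y, by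
    refine (CurvLib.hMap_comp (k := k) s S.g 0 y).symm.trans ?_
    rw [hs]
    exact ((CurvLib.hMap_apply (k := k) (𝟙 S.X₃) 0 y).trans (by
      rw [CategoryTheory.Functor.map_id]; exact Sheaf.H.map_id_apply _))⟩
  have ha : Function.Injective a := CurvLib.injective₀ (k := k) hS
  have hab : LinearMap.range a = LinearMap.ker b := CurvLib.exact₂ (k := k) hS 0
  haveI : Module.Finite k (LinearMap.ker b) := hab ▸ Module.Finite.range a
  haveI : Module.Finite k (Coh.HH X S.X₂ 0 ⧸ LinearMap.ker b) :=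
    Module.Finite.equiv (b.quotKerEquivOfSurjective hb).symm
  haveI : Module.Finite k (Coh.HH X S.X₂ 0) := Module.Finite.of_submodule_quotient (LinearMap.ker b)
  have h1 := LinearMap.finrank_range_add_finrank_ker b
  rw [LinearMap.range_eq_top.mpr hb, finrank_top, ← hab, LinearMap.finrank_range_of_inj ha] at h1
  exact ⟨inferInstance, by omega⟩

end VBP1Lib

end
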